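import Groth.Agent.CAlg4.RegHomLoc
import Groth.Agent.Cohen12.Completion
import Groth.Agent.Cohen12.FlatLift
import Groth.Agent.CAlg7.FlatLimit
import Groth.Agent.EGA4H10.CompleteGRing

/-!
# The G-ring condition only has to be tested at maximal ideals

If `A` is a Noetherian local ring whose completion map is regular, the completion map of every
localization of `A` is regular.
-/

set_option autoImplicit false
set_option maxHeartbeats 400000
universe u

open IsLocalRing

namespace Groth.Agent.GRing57

/-- The completion map of a local ring is regular. -/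
abbrev RegCpl (A : Type u) [CommRing A] [IsLocalRing A] : Prop :=
  CAlg.IsRegularHom A (AdicCompletion (maximalIdeal A) A)

theorem regCpl_of_ringEquiv {A B : Type u} [CommRing A] [CommRing B] [IsLocalRing A] [IsLocalRing B]
    [IsNoetherianRing A] (e : A ≃+* B) (h : RegCpl A) : RegCpl B := by
  obtain ⟨f, hf⟩ := EGA4H10.exists_cpl_equiv e
  exact EGA4H10.isRegularHom_of_ringEquiv e f hf h

theorem isLocalHom_algebraMap_completion (A : Type u) [CommRing A] [IsLocalRing A] [IsNoetherianRing A] :
    IsLocalHom (algebraMap A (AdicCompletion (maximalIdeal A) A)) :=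
  ((IsLocalRing.local_hom_TFAE _).out 2 0 rfl rfl).mp AdicCompletion.maximalIdeal_eq_map.symm.le

/-- A flat local homomorphism to a complete local ring extends to a faithfully flat map from the
completion. -/
theorem faithfullyFlat_completion_extension (A S : Type u) [CommRing A] [IsLocalRing A] [IsNoetherianRing A]
    [CommRing S] [IsLocalRing S] [IsNoetherianRing S] [Algebra A S] [Module.Flat A S]
    [IsLocalHom (algebraMap A S)]
    [Algebra (AdicCompletion (maximalIdeal A) A) S]
    [IsScalarTower A (AdicCompletion (maximalIdeal A) A) S] :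
    Module.FaithfullyFlat (AdicCompletion (maximalIdeal A) A) S := by
  set Ah := AdicCompletion (maximalIdeal A) A
  have : IsNoetherianRing Ah := Cohen12.isNoetherianRing_completion A
  have := isLocalHom_algebraMap_completion A
  have hloc : IsLocalHom (algebraMap Ah S) := by
    refine ((IsLocalRing.local_hom_TFAE _).out 2 0 rfl rfl).mp ?_
    rw [AdicCompletion.maximalIdeal_eq_map, Ideal.map_map, ← IsScalarTower.algebraMap_eq]
    exact ((IsLocalRing.local_hom_TFAE (algebraMap A S)).out 0 2 rfl rfl).mp inferInstance
  have hflat : Module.Flat Ah S := by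
    refine CAlg7.flat_of_forall_flat_mod_pow (S := S) (maximalIdeal Ah)
      ((((IsLocalRing.local_hom_TFAE (algebraMap Ah S)).out 0 2 rfl rfl).mp hloc).trans
        (IsLocalRing.maximalIdeal_le_jacobson _)) fun m _ => ?_
    -- reduce modulo `m ^ n`
    let I : Ideal A := maximalIdeal A ^ m
    have h1 : (algebraMap (A ⧸ I) (S ⧸ I.map (algebraMap A S))).Flat := Cohen12.flat_quotient_algebraMap I
    have hle : I ≤ (maximalIdeal Ah ^ m).comap (algebraMap A Ah) := fun a ha =>
      (Cohen12.algebraMap_mem_pow_iff A m a).mpr ha
    let e : (A ⧸ I) →+* Ah ⧸ maximalIdeal Ah ^ m := Ideal.quotientMap _ (algebraMap A Ah) hle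
    have he : Function.Bijective e := by
      refine ⟨(injective_iff_map_eq_zero _).mpr fun x hx => ?_, fun y => ?_⟩
      · obtain ⟨a, rfl⟩ := Ideal.Quotient.mk_surjective x
        rw [Ideal.quotientMap_mk, Ideal.Quotient.eq_zero_iff_mem] at hx
        exact Ideal.Quotient.eq_zero_iff_mem.mpr ((Cohen12.algebraMap_mem_pow_iff A m a).mp hx)
      · obtain ⟨c, rfl⟩ := Ideal.Quotient.mk_surjective y
        obtain ⟨a, ha⟩ := Cohen12.exists_sub_mem_pow A m c
        exact ⟨Ideal.Quotient.mk _ a, by
          rw [Ideal.quotientMap_mk]; exact ((Ideal.Quotient.mk_eq_mk_iff_sub_mem _ _).mpr ha).symm⟩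
    have hmap : (maximalIdeal Ah ^ m).map (algebraMap Ah S) = I.map (algebraMap A S) := by
      rw [Cohen12.pow_maximalIdeal_completion, Ideal.map_map, ← IsScalarTower.algebraMap_eq]
    -- the flat map `Ah/m^n → S/m^n S`
    have h2 : (algebraMap (Ah ⧸ maximalIdeal Ah ^ m)
        (S ⧸ (maximalIdeal Ah ^ m).map (algebraMap Ah S))).Flat := by
      have h3 := RingHom.Flat.comp
        (RingHom.Flat.comp (RingHom.Flat.of_bijective (f := (RingEquiv.ofBijective e he).symm.toRingHom)
          (RingEquiv.ofBijective e he).symm.bijective) h1)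
        (RingHom.Flat.of_bijective (f := (Ideal.quotEquivOfEq hmap.symm).toRingHom)
          (Ideal.quotEquivOfEq hmap.symm).bijective)
      convert h3 using 1
      refine Ideal.Quotient.ringHom_ext (RingHom.ext fun c => ?_)
      obtain ⟨a, ha⟩ := Cohen12.exists_sub_mem_pow A m c
      have hc : Ideal.Quotient.mk (maximalIdeal Ah ^ m) c = e (Ideal.Quotient.mk I a) := by
        rw [Ideal.quotientMap_mk]; exact (Ideal.Quotient.mk_eq_mk_iff_sub_mem _ _).mpr ha
      simp only [RingHom.comp_apply]
      rw [hc]
      rw [show (RingEquiv.ofBijective e he).symm.toRingHom (e (Ideal.Quotient.mk I a)) = Ideal.Quotient.mk I a from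
        he.1 ((RingEquiv.ofBijective e he).apply_symm_apply _)]
      show Ideal.Quotient.mk _ (algebraMap Ah S (algebraMap A Ah a)) =
        Ideal.Quotient.mk _ (algebraMap A S a)
      rw [← IsScalarTower.algebraMap_apply]
    rw [RingHom.flat_algebraMap_iff] at h2
    let e0 : (S ⧸ (maximalIdeal Ah ^ m • ⊤ : Submodule Ah S)) ≃ₗ[Ah]
        S ⧸ (maximalIdeal Ah ^ m).map (algebraMap Ah S) :=
      (Submodule.quotEquivOfEq _ _ (Ideal.smul_top_eq_map _)).trans
        (Submodule.Quotient.restrictScalarsEquiv Ah ((maximalIdeal Ah ^ m).map (algebraMap Ah S)))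
    exact Module.Flat.of_linearEquiv
      (e0.extendScalarsOfSurjective (R := Ah) (S := Ah ⧸ maximalIdeal Ah ^ m) Ideal.Quotient.mk_surjective)
  exact Module.FaithfullyFlat.of_flat_of_isLocalHom

theorem regCpl_of_regularHom {B D : Type u} [CommRing B] [IsLocalRing B] [IsNoetherianRing B]
    [CommRing D] [IsLocalRing D] [IsNoetherianRing D] [IsAdicComplete (maximalIdeal D) D]
    [Algebra B D] [IsLocalHom (algebraMap B D)] (h : CAlg.IsRegularHom B D) : RegCpl B := by
  obtain ⟨g, hg⟩ := Cohen12.exists_extension B (algebraMap B D)
    (((IsLocalRing.local_hom_TFAE (algebraMap B D)).out 0 2 rfl rfl).mp inferInstance)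
  let : Algebra (AdicCompletion (maximalIdeal B) B) D := g.toAlgebra
  have : IsScalarTower B (AdicCompletion (maximalIdeal B) B) D := .of_algebraMap_eq fun b => (hg b).symm
  have : Module.Flat B D := h.1
  have := faithfullyFlat_completion_extension B D
  exact CAlg5.isRegularHom_of_comp_of_faithfullyFlat B _ D h

theorem regularHom_trans {B C D : Type u} [CommRing B] [CommRing C] [CommRing D] [Algebra B C] [Algebra C D]
    [IsLocalRing B] [IsLocalRing C] [IsLocalRing D] [IsNoetherianRing B] [IsNoetherianRing D]
    [IsLocalHom (algebraMap B C)] [IsLocalHom (algebraMap C D)] [IsAdicComplete (maximalIdeal D) D]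
    (h1 : CAlg.IsRegularHom B C) (h2 : CAlg.IsRegularHom C D) : RegCpl B := by
  let : Algebra B D := ((algebraMap C D).comp (algebraMap B C)).toAlgebra
  have : IsScalarTower B C D := .of_algebraMap_eq fun _ => rfl
  have : IsLocalHom (algebraMap B D) := by
    rw [RingHom.algebraMap_toAlgebra]; infer_instance
  exact regCpl_of_regularHom
    (CAlg5.isRegularHom_comp B C D h1 h2 fun P _ => CAlg4.RegHomLoc.isNoetherianRing_fiber P)

/-- If the completion map of a Noetherian local ring is regular, so is the completion map of each of
its localizations at primes. -/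
theorem regCpl_localization {A : Type u} [CommRing A] [IsLocalRing A] [IsNoetherianRing A]
    (h : RegCpl A) (p : Ideal A) [p.IsPrime] : RegCpl (Localization.AtPrime p) := by
  let Ah := AdicCompletion (maximalIdeal A) A
  have : IsNoetherianRing Ah := Cohen12.isNoetherianRing_completion A
  have := Cohen12.isAdicComplete_completion A
  have hflatAh : Module.Flat A Ah := h.1
  have := isLocalHom_algebraMap_completion A
  have : Module.FaithfullyFlat A Ah := Module.FaithfullyFlat.of_flat_of_isLocalHom
  obtain ⟨⟨q, hqp⟩, hq⟩ := PrimeSpectrum.comap_surjective_of_faithfullyFlat (B := Ah) ⟨p, inferInstance⟩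
  obtain rfl : q.comap (algebraMap A Ah) = p := congrArg PrimeSpectrum.asIdeal hq
  have h1 := CAlg4.RegHomLoc.localization_isRegularHom h q
  let : Algebra (Localization.AtPrime (q.comap (algebraMap A Ah))) (Localization.AtPrime q) :=
    (Localization.localRingHom (q.comap (algebraMap A Ah)) q (algebraMap A Ah) rfl).toAlgebra
  have : IsLocalHom (algebraMap (Localization.AtPrime (q.comap (algebraMap A Ah))) (Localization.AtPrime q)) :=
    Localization.isLocalHom_localRingHom _ _ _ rfl
  set B := Localization.AtPrime (q.comap (algebraMap A Ah))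
  set C := Localization.AtPrime q
  have : IsNoetherianRing B := IsLocalization.isNoetherianRing (q.comap (algebraMap A Ah)).primeCompl _ inferInstance
  have : IsNoetherianRing C := IsLocalization.isNoetherianRing q.primeCompl _ inferInstance
  have h2 : CAlg.IsRegularHom C (AdicCompletion (maximalIdeal C) C) := (EGA4H10.isGRing_of_complete Ah).2 q
  let Ch := AdicCompletion (maximalIdeal C) C
  have : IsNoetherianRing Ch := Cohen12.isNoetherianRing_completion C
  have := Cohen12.isAdicComplete_completion C
  have := isLocalHom_algebraMap_completion C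
  exact regularHom_trans h1 h2

/-- Regularity of the completion map of the local ring at a prime passes to smaller primes. -/
theorem regCpl_of_le {R : Type u} [CommRing R] [IsNoetherianRing R] {p m : Ideal R} [p.IsPrime] [m.IsPrime]
    (hle : p ≤ m) (h : RegCpl (Localization.AtPrime m)) : RegCpl (Localization.AtPrime p) := by
  have hd : Disjoint (m.primeCompl : Set R) p := Set.disjoint_left.mpr fun x hx hxp => hx (hle hxp)
  set P := p.map (algebraMap R (Localization.AtPrime m))
  have hP : P.IsPrime := IsLocalization.isPrime_of_isPrime_disjoint m.primeCompl _ p inferInstance hd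
  have hPc : P.comap (algebraMap R (Localization.AtPrime m)) = p :=
    IsLocalization.under_map_of_isPrime_disjoint m.primeCompl _ inferInstance hd
  have := IsLocalization.isLocalization_isLocalization_atPrime_isLocalization m.primeCompl
    (Localization.AtPrime P) P
  have : IsLocalization.AtPrime (Localization.AtPrime P) p := by simpa only [hPc] using this
  have : IsNoetherianRing (Localization.AtPrime m) := IsLocalization.isNoetherianRing m.primeCompl _ inferInstance
  have : IsNoetherianRing (Localization.AtPrime P) := IsLocalization.isNoetherianRing P.primeCompl _ inferInstance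
  exact regCpl_of_ringEquiv (IsLocalization.algEquiv p.primeCompl (Localization.AtPrime P)
    (Localization.AtPrime p)).toRingEquiv (regCpl_localization h P)

theorem isGRing_of_isMaximal {R : Type u} [CommRing R] [IsNoetherianRing R]
    (h : ∀ (m : Ideal R) [m.IsMaximal], RegCpl (Localization.AtPrime m)) : CAlg.IsGRing R := by
  refine ⟨inferInstance, fun p _ => ?_⟩
  obtain ⟨m, hm, hle⟩ := p.exists_le_maximal (Ideal.IsPrime.ne_top inferInstance)
  exact regCpl_of_le hle (h m)

end Groth.Agent.GRing57
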