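import Groth.Agent.GRing57.LocRegular
import Groth.Agent.Ega11.SchemeTop

/-!
# G-schemes
-/

set_option autoImplicit false
set_option backward.isDefEq.respectTransparency.types false
universe u

open CategoryTheory AlgebraicGeometry

namespace Groth.Agent.GRing57

variable {X : Scheme.{u}}

/-- The completion map of the local ring at a point is regular. -/
abbrev RegAt (X : Scheme.{u}) (x : X) : Prop :=
  RegCpl (X.presheaf.stalk x)

theorem regAt_iff {U : X.Opens} (hU : IsAffineOpen U) [IsNoetherianRing Γ(X, U)] (x : U) :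
    RegAt X x ↔ RegCpl (Localization.AtPrime (hU.primeIdealOf x).asIdeal) := by
  let p := (hU.primeIdealOf x).asIdeal
  let : Algebra Γ(X, U) (X.presheaf.stalk (x : X)) := X.presheaf.algebra_section_stalk x
  have : IsLocalization.AtPrime (X.presheaf.stalk (x : X)) p := hU.isLocalization_stalk x
  let e : Localization.AtPrime p ≃+* X.presheaf.stalk (x : X) :=
    (IsLocalization.algEquiv p.primeCompl _ _).toRingEquiv
  have : IsNoetherianRing (Localization.AtPrime p) := IsLocalization.isNoetherianRing p.primeCompl _ inferInstance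
  have : IsNoetherianRing (X.presheaf.stalk (x : X)) := isNoetherianRing_of_ringEquiv _ e
  exact ⟨regCpl_of_ringEquiv e.symm, regCpl_of_ringEquiv e⟩

theorem isGRing_iff {U : X.Opens} (hU : IsAffineOpen U) :
    CAlg.IsGRing Γ(X, U) ↔ IsNoetherianRing Γ(X, U) ∧ ∀ x ∈ U, RegAt X x := by
  refine ⟨fun h => ⟨h.1, fun x hx => ?_⟩, fun ⟨hN, h⟩ => ⟨hN, fun p _ => ?_⟩⟩
  · have := h.1
    exact (regAt_iff hU ⟨x, hx⟩).mpr (h.2 _)
  · have := hU.isOpenImmersion_fromSpec
    have hx : hU.fromSpec ⟨p, inferInstance⟩ ∈ U := by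
      have h' : hU.fromSpec ⟨p, inferInstance⟩ ∈ Set.range hU.fromSpec := ⟨_, rfl⟩
      rwa [hU.range_fromSpec] at h'
    have hp : hU.primeIdealOf ⟨_, hx⟩ = ⟨p, inferInstance⟩ :=
      hU.fromSpec.isOpenEmbedding.injective (hU.fromSpec_primeIdealOf _)
    have h2 := (regAt_iff hU ⟨_, hx⟩).mp (h _ hx)
    have hp' : (hU.primeIdealOf ⟨_, hx⟩).asIdeal = p := congrArg PrimeSpectrum.asIdeal hp
    revert h2
    generalize hU.primeIdealOf ⟨_, hx⟩ = P at hp'
    subst hp'
    exact id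

theorem isLocallyNoetherian_of_forall (h : ∀ x : X, ∃ U : X.Opens, x ∈ U ∧ IsAffineOpen U ∧ CAlg.IsGRing Γ(X, U)) :
    IsLocallyNoetherian X := by
  choose U hx hU hG using h
  refine isLocallyNoetherian_of_affine_cover (S := fun x => ⟨U x, hU x⟩) ?_ fun x => (hG x).1
  exact TopologicalSpace.Opens.ext (Set.eq_univ_of_forall fun x => by
    simp only [TopologicalSpace.Opens.coe_iSup, Set.mem_iUnion]
    exact ⟨x, hx x⟩)

theorem forall_isGRing_iff :
    (∀ x : X, ∃ U : X.Opens, x ∈ U ∧ IsAffineOpen U ∧ CAlg.IsGRing Γ(X, U)) ↔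
      IsLocallyNoetherian X ∧ ∀ x : X, RegAt X x := by
  refine ⟨fun h => ⟨isLocallyNoetherian_of_forall h, fun x => ?_⟩, fun ⟨hN, h⟩ x => ?_⟩
  · obtain ⟨U, hx, hU, hG⟩ := h x
    exact ((isGRing_iff hU).mp hG).2 x hx
  · obtain ⟨_, ⟨U, hU, rfl⟩, hxU, -⟩ :=
      X.isBasis_affineOpens.exists_subset_of_mem_open (Set.mem_univ x) isOpen_univ
    exact ⟨U, hxU, hU, (isGRing_iff hU).mpr ⟨hN.component_noetherian ⟨U, hU⟩, fun y _ => h y⟩⟩

theorem regAt_of_specializes [IsLocallyNoetherian X] {x y : X} (hxy : x ⤳ y) (h : RegAt X y) : RegAt X x := by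
  obtain ⟨_, ⟨V, hV, rfl⟩, hyV, -⟩ :=
    X.isBasis_affineOpens.exists_subset_of_mem_open (Set.mem_univ y) isOpen_univ
  replace hV : IsAffineOpen V := hV
  have : IsNoetherianRing Γ(X, V) := IsLocallyNoetherian.component_noetherian ⟨V, hV⟩
  have := hV.isOpenImmersion_fromSpec
  have hxV : x ∈ V := hxy.mem_open V.isOpen hyV
  have hle : (hV.primeIdealOf ⟨x, hxV⟩).asIdeal ≤ (hV.primeIdealOf ⟨y, hyV⟩).asIdeal :=
    (PrimeSpectrum.le_iff_specializes _ _).mpr (hV.fromSpec.isOpenEmbedding.isInducing.specializes_iff.mp (by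
      rw [hV.fromSpec_primeIdealOf, hV.fromSpec_primeIdealOf]; exact hxy))
  exact (regAt_iff hV ⟨x, hxV⟩).mpr (regCpl_of_le hle ((regAt_iff hV ⟨y, hyV⟩).mp h))

theorem regAt_of_closedPoints [IsLocallyNoetherian X]
    (h : ∀ y : X, IsClosed ({y} : Set X) → RegAt X y) (x : X) : RegAt X x := by
  obtain ⟨y, hy, hyc⟩ := Ega11.SchemeTop.exists_isClosed_singleton X isClosed_closure
    (Set.singleton_nonempty x).closure
  exact regAt_of_specializes (specializes_iff_mem_closure.mpr hy) (h y hyc)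

end Groth.Agent.GRing57
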